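import Groth.Agent.FlatA.LocalCriterion
import Mathlib.RingTheory.Flat.Basic
import Mathlib.LinearAlgebra.TensorProduct.RightExactness
import Mathlib.RingTheory.Ideal.Quotient.Operations
import Mathlib.RingTheory.Ideal.Over
import Mathlib.RingTheory.Ideal.IsPrimary
import Mathlib.RingTheory.TensorProduct.Quotient

/-!
# Embedded deformations of a closed subscheme of an affine scheme, along a square-zero ideal

`C'` a ring, `J` an ideal with `J * J = ⊥`, `A'` a flat `C'`-algebra, `I` an ideal of `A'/JA'`, and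
`K` an ideal of `A'` with flat quotient reducing to `I`.
-/

set_option autoImplicit false
universe u

open TensorProduct

namespace K577.EmbDef

section Tensor

variable {R : Type u} [CommRing R] (J : Ideal R) {M N : Type u} [AddCommGroup M] [Module R M]
  [AddCommGroup N] [Module R N]

/-- A surjection `M → N` with kernel contained in `JM`, `J² = 0`, becomes injective after `⊗ J`. -/
theorem rTensor_injective (hJJ : J * J = ⊥) (p : M →ₗ[R] N) (hp : Function.Surjective p)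
    (hk : LinearMap.ker p ≤ J • (⊤ : Submodule R M)) : Function.Injective (p.rTensor J) := by
  refine (injective_iff_map_eq_zero _).2 fun w hw => ?_
  have hex : Function.Exact (LinearMap.ker p).subtype p := LinearMap.exact_subtype_ker_map p
  obtain ⟨v, rfl⟩ := (rTensor_exact J hex hp w).1 hw
  clear hw
  induction v with
  | zero => simp
  | add x y hx hy => rw [map_add, hx, hy, add_zero]
  | tmul x j =>
    rw [LinearMap.rTensor_tmul]
    change (x : M) ⊗ₜ[R] j = 0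
    have hx := hk x.2
    generalize (x : M) = m at hx
    induction hx using Submodule.smul_induction_on' with
    | smul r hr n _ =>
      rw [TensorProduct.smul_tmul]
      have h0 : r • j = 0 := by
        apply Subtype.ext
        have h1 : r * (j : R) ∈ J * J := Ideal.mul_mem_mul hr j.2
        rw [hJJ] at h1
        simpa using h1
      rw [h0, TensorProduct.tmul_zero]
    | add a _ b _ ha hb => rw [TensorProduct.add_tmul, ha, hb, add_zero]

end Tensor

section Main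

variable {C' : Type u} [CommRing C'] {J : Ideal C'} (A' : Type u) [CommRing A'] [Algebra C' A']

/-- `A' ⊗ J → A'`. -/
noncomputable def mu (J : Ideal C') : A' ⊗[C'] J →ₗ[A'] A' where
  toFun z := TensorProduct.rid C' A' (LinearMap.lTensor A' (Submodule.subtype J) z)
  map_add' x y := by rw [map_add, map_add]
  map_smul' a x := by
    induction x with
    | zero => simp
    | add x y hx hy => rw [smul_add, map_add, map_add, hx, hy, map_add, map_add, smul_add]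
    | tmul b j =>
      rw [TensorProduct.smul_tmul', LinearMap.lTensor_tmul, LinearMap.lTensor_tmul,
        TensorProduct.rid_tmul, TensorProduct.rid_tmul, RingHom.id_apply, smul_comm]

theorem mu_tmul (a : A') (j : J) : mu A' J (a ⊗ₜ j) = (j : C') • a := by
  change TensorProduct.rid C' A' (LinearMap.lTensor A' (Submodule.subtype J) (a ⊗ₜ j)) = _
  rw [LinearMap.lTensor_tmul, TensorProduct.rid_tmul]
  rfl

variable {A'}

theorem mu_mem (z : A' ⊗[C'] J) : mu A' J z ∈ J.map (algebraMap C' A') := by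
  induction z with
  | zero => rw [map_zero]; exact zero_mem _
  | add x y hx hy => rw [map_add]; exact add_mem hx hy
  | tmul a j =>
    rw [mu_tmul, Algebra.smul_def]
    exact Ideal.mul_mem_right _ _ (Ideal.mem_map_of_mem _ j.2)

theorem exists_mu {x : A'} (hx : x ∈ J.map (algebraMap C' A')) : ∃ z : A' ⊗[C'] J, mu A' J z = x := by
  refine Submodule.span_induction (p := fun x _ => ∃ z : A' ⊗[C'] J, mu A' J z = x) ?_ ?_ ?_ ?_ hx
  · rintro _ ⟨j, hj, rfl⟩
    exact ⟨1 ⊗ₜ ⟨j, hj⟩, by rw [mu_tmul, Algebra.smul_def, mul_one]⟩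
  · exact ⟨0, map_zero _⟩
  · rintro _ _ _ _ ⟨z, rfl⟩ ⟨w, rfl⟩
    exact ⟨z + w, map_add _ _ _⟩
  · rintro a _ _ ⟨z, rfl⟩
    exact ⟨a • z, map_smul _ _ _⟩

theorem mu_injective [Module.Flat C' A'] : Function.Injective (mu A' J) := fun x y h => by
  have h1 := (TensorProduct.rid C' A').injective h
  exact Module.Flat.lTensor_preserves_injective_linearMap _ J.subtype_injective h1

variable (I : Ideal (A' ⧸ J.map (algebraMap C' A')))

/-- `A' ⊗ J → B ⊗ J`. -/
noncomputable def rho : A' ⊗[C'] J →ₗ[A'] ((A' ⧸ J.map (algebraMap C' A')) ⧸ I) ⊗[C'] J :=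
  AlgebraTensorModule.rTensor C' J
    (IsScalarTower.toAlgHom A' A' ((A' ⧸ J.map (algebraMap C' A')) ⧸ I)).toLinearMap

theorem rho_apply (z : A' ⊗[C'] J) : rho I z = LinearMap.rTensor J
    (IsScalarTower.toAlgHom C' A' ((A' ⧸ J.map (algebraMap C' A')) ⧸ I)).toLinearMap z := rfl

theorem rho_surjective : Function.Surjective (rho I) := by
  refine LinearMap.rTensor_surjective J
    (g := (IsScalarTower.toAlgHom C' A' ((A' ⧸ J.map (algebraMap C' A')) ⧸ I)).toLinearMap) ?_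
  intro x
  obtain ⟨y, rfl⟩ := Ideal.Quotient.mk_surjective x
  obtain ⟨z, rfl⟩ := Ideal.Quotient.mk_surjective y
  exact ⟨z, rfl⟩

variable {I} {K : Ideal A'} (hK : K.map (Ideal.Quotient.mk (J.map (algebraMap C' A'))) = I)

include hK in
theorem exists_lift {x : A' ⧸ J.map (algebraMap C' A')} (hx : x ∈ I) :
    ∃ y ∈ K, Ideal.Quotient.mk (J.map (algebraMap C' A')) y = x := by
  rw [← hK, Ideal.mem_map_iff_of_surjective _ Ideal.Quotient.mk_surjective] at hx
  exact hx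

/-- `A'/K → B`. -/
noncomputable def toB : (A' ⧸ K) →ₐ[A'] ((A' ⧸ J.map (algebraMap C' A')) ⧸ I) :=
  Ideal.Quotient.liftₐ K (IsScalarTower.toAlgHom A' A' _) fun a ha => by
    change Ideal.Quotient.mk I (Ideal.Quotient.mk (J.map (algebraMap C' A')) a) = 0
    rw [Ideal.Quotient.eq_zero_iff_mem, ← hK]
    exact Ideal.mem_map_of_mem _ ha

theorem toB_mk (a : A') : toB hK (Ideal.Quotient.mk K a) =
    Ideal.Quotient.mk I (Ideal.Quotient.mk (J.map (algebraMap C' A')) a) := rfl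

/-- `A'/K → B`, `C'`-linear. -/
noncomputable def toBC : (A' ⧸ K) →ₗ[C'] ((A' ⧸ J.map (algebraMap C' A')) ⧸ I) :=
  ((toB hK).restrictScalars C').toLinearMap

theorem toBC_ker : LinearMap.ker (toBC hK) ≤ J • (⊤ : Submodule C' (A' ⧸ K)) := by
  intro x hx
  obtain ⟨a, rfl⟩ := Ideal.Quotient.mk_surjective x
  have h1 : Ideal.Quotient.mk I (Ideal.Quotient.mk (J.map (algebraMap C' A')) a) = 0 := hx
  rw [Ideal.Quotient.eq_zero_iff_mem] at h1
  obtain ⟨y, hy, hya⟩ := exists_lift hK h1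
  have h2 : a - y ∈ J.map (algebraMap C' A') := Ideal.Quotient.eq.1 hya.symm
  obtain ⟨z, hz⟩ := exists_mu h2
  have h3 : Ideal.Quotient.mk K a = Ideal.Quotient.mk K (mu A' J z) := by
    rw [Ideal.Quotient.eq, hz]
    simpa using hy
  rw [h3]
  clear hz h3
  induction z with
  | zero => rw [map_zero, map_zero]; exact zero_mem _
  | add x y hx hy => rw [map_add, map_add]; exact add_mem hx hy
  | tmul b j =>
    rw [mu_tmul]
    have h4 : Ideal.Quotient.mk K ((j : C') • b) = (j : C') • Ideal.Quotient.mk K b := rfl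
    rw [h4]
    exact Submodule.smul_mem_smul j.2 trivial

theorem toBC_surjective : Function.Surjective (toBC hK) := by
  intro x
  obtain ⟨y, rfl⟩ := Ideal.Quotient.mk_surjective x
  obtain ⟨z, rfl⟩ := Ideal.Quotient.mk_surjective y
  exact ⟨Ideal.Quotient.mk K z, rfl⟩

theorem rho_eq (z : A' ⊗[C'] J) :
    (toBC hK).rTensor J ((Ideal.Quotient.mkₐ C' K).toLinearMap.rTensor J z) = rho I z := by
  rw [rho_apply, ← LinearMap.comp_apply, ← LinearMap.rTensor_comp]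
  rfl

theorem mk_mu (z : A' ⊗[C'] J) : Ideal.Quotient.mk K (mu A' J z) =
    TensorProduct.rid C' (A' ⧸ K) (J.subtype.lTensor (A' ⧸ K)
      ((Ideal.Quotient.mkₐ C' K).toLinearMap.rTensor J z)) := by
  induction z with
  | zero => simp
  | add x y hx hy => simp only [map_add, hx, hy]
  | tmul b j =>
    rw [mu_tmul, LinearMap.rTensor_tmul, LinearMap.lTensor_tmul, TensorProduct.rid_tmul]
    rfl

include hK in
/-- If `z ↦ 0` in `B ⊗ J` then `μ z ∈ K`. -/
theorem mu_mem_of_rho (hJJ : J * J = ⊥) {z : A' ⊗[C'] J} (hz : rho I z = 0) : mu A' J z ∈ K := by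
  rw [← Ideal.Quotient.eq_zero_iff_mem, mk_mu]
  rw [← rho_eq hK] at hz
  have h1 := rTensor_injective J hJJ (toBC hK) (toBC_surjective hK) (toBC_ker hK)
  have h2 : (Ideal.Quotient.mkₐ C' K).toLinearMap.rTensor J z = 0 := by
    apply h1
    rw [hz, map_zero]
  rw [h2, map_zero, map_zero]

include hK in
/-- If `A'/K` is flat and `μ z ∈ K`, then `z ↦ 0` in `B ⊗ J`. -/
theorem rho_eq_zero [Module.Flat C' (A' ⧸ K)] {z : A' ⊗[C'] J} (hz : mu A' J z ∈ K) :
    rho I z = 0 := by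
  rw [← Ideal.Quotient.eq_zero_iff_mem, mk_mu] at hz
  have h1 : J.subtype.lTensor (A' ⧸ K) ((Ideal.Quotient.mkₐ C' K).toLinearMap.rTensor J z) = 0 := by
    apply (TensorProduct.rid C' (A' ⧸ K)).injective
    rw [hz, map_zero]
  have h2 := Module.Flat.lTensor_preserves_injective_linearMap (M := A' ⧸ K) _ J.subtype_injective
    (h1.trans (map_zero _).symm)
  rw [← rho_eq hK, h2, map_zero]

include hK in
theorem exists_equiv : Nonempty (((C' ⧸ J) ⊗[C'] (A' ⧸ K)) ≃ₗ[C' ⧸ J]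
    ((A' ⧸ J.map (algebraMap C' A')) ⧸ I)) := by
  let g : ((C' ⧸ J) ⊗[C'] (A' ⧸ K)) →ₗ[C' ⧸ J] ((A' ⧸ J.map (algebraMap C' A')) ⧸ I) :=
    (toBC hK).liftBaseChange (C' ⧸ J)
  have hg : ∀ x, g (1 ⊗ₜ x) = toBC hK x := fun x => by simp [g]
  refine ⟨LinearEquiv.ofBijective g ⟨?_, ?_⟩⟩
  · refine (injective_iff_map_eq_zero _).2 fun w hw => ?_
    obtain ⟨x, rfl⟩ := TensorProduct.mk_surjective C' (A' ⧸ K) (C' ⧸ J)
      Ideal.Quotient.mk_surjective w
    rw [TensorProduct.mk_apply] at hw ⊢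
    rw [hg] at hw
    have h1 : x ∈ J • (⊤ : Submodule C' (A' ⧸ K)) := toBC_ker hK hw
    clear hw
    induction h1 using Submodule.smul_induction_on' with
    | smul r hr n _ =>
      rw [TensorProduct.tmul_smul, TensorProduct.smul_tmul', Algebra.smul_def, mul_one]
      have : algebraMap C' (C' ⧸ J) r = 0 := Ideal.Quotient.eq_zero_iff_mem.2 hr
      rw [this, TensorProduct.zero_tmul]
    | add a _ b _ ha hb => rw [TensorProduct.tmul_add, ha, hb, add_zero]
  · intro y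
    obtain ⟨x, rfl⟩ := toBC_surjective hK y
    exact ⟨1 ⊗ₜ x, hg x⟩

include hK in
/-- Flatness of `A'/K` from the converse. -/
theorem flat_of_forall (hJJ : J * J = ⊥)
    [Module.Flat (C' ⧸ J) ((A' ⧸ J.map (algebraMap C' A')) ⧸ I)]
    (h : ∀ z : A' ⊗[C'] J, mu A' J z ∈ K → rho I z = 0) : Module.Flat C' (A' ⧸ K) := by
  refine Groth.Agent.FlatA.LocalCriterion.flat_of_isNilpotent J ⟨2, by rw [pow_two, hJJ]; rfl⟩ ?_ ?_
  · have h1 : Function.Injective (J.subtype.lTensor (A' ⧸ K)) := by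
      refine (injective_iff_map_eq_zero _).2 fun w hw => ?_
      obtain ⟨z, rfl⟩ := LinearMap.rTensor_surjective J
        (g := (Ideal.Quotient.mkₐ C' K).toLinearMap) Ideal.Quotient.mk_surjective w
      have h2 : mu A' J z ∈ K := by
        rw [← Ideal.Quotient.eq_zero_iff_mem, mk_mu, hw, map_zero]
      have h3 := h z h2
      rw [← rho_eq hK] at h3
      exact rTensor_injective J hJJ (toBC hK) (toBC_surjective hK) (toBC_ker hK)
        (h3.trans (map_zero _).symm)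
    exact (LinearMap.lTensor_inj_iff_rTensor_inj _ _).1 h1
  · obtain ⟨e⟩ := exists_equiv hK
    exact Module.Flat.of_linearEquiv e

end Main

section Results

variable {C' : Type u} [CommRing C'] {J : Ideal C'} {A' : Type u} [CommRing A'] [Algebra C' A']
  {I : Ideal (A' ⧸ J.map (algebraMap C' A'))}

/-- The difference relation between two ideals `K`, `L` of `A'` reducing to `I`. -/
def rel (K L : Ideal A') (x : I) (t : ((A' ⧸ J.map (algebraMap C' A')) ⧸ I) ⊗[C'] J) : Prop :=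
  ∃ y ∈ K, ∃ w ∈ L, Ideal.Quotient.mk (J.map (algebraMap C' A')) y = x ∧
    Ideal.Quotient.mk (J.map (algebraMap C' A')) w = x ∧
    ∃ z : A' ⊗[C'] J, mu A' J z = w - y ∧ rho I z = t

theorem rel_add {K L : Ideal A'} {x₁ x₂ : I} {t₁ t₂} (h₁ : rel K L x₁ t₁) (h₂ : rel K L x₂ t₂) :
    rel K L (x₁ + x₂) (t₁ + t₂) := by
  obtain ⟨y₁, hy₁, w₁, hw₁, e₁, f₁, z₁, hz₁, rfl⟩ := h₁
  obtain ⟨y₂, hy₂, w₂, hw₂, e₂, f₂, z₂, hz₂, rfl⟩ := h₂
  refine ⟨y₁ + y₂, add_mem hy₁ hy₂, w₁ + w₂, add_mem hw₁ hw₂, ?_, ?_, z₁ + z₂, ?_, map_add _ _ _⟩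
  · rw [map_add, e₁, e₂]; rfl
  · rw [map_add, f₁, f₂]; rfl
  · rw [map_add, hz₁, hz₂]; ring

theorem rel_sub {K L : Ideal A'} {x₁ x₂ : I} {t₁ t₂} (h₁ : rel K L x₁ t₁) (h₂ : rel K L x₂ t₂) :
    rel K L (x₁ - x₂) (t₁ - t₂) := by
  obtain ⟨y₁, hy₁, w₁, hw₁, e₁, f₁, z₁, hz₁, rfl⟩ := h₁
  obtain ⟨y₂, hy₂, w₂, hw₂, e₂, f₂, z₂, hz₂, rfl⟩ := h₂
  refine ⟨y₁ - y₂, sub_mem hy₁ hy₂, w₁ - w₂, sub_mem hw₁ hw₂, ?_, ?_, z₁ - z₂, ?_, map_sub _ _ _⟩
  · rw [map_sub, e₁, e₂]; rfl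
  · rw [map_sub, f₁, f₂]; rfl
  · rw [map_sub, hz₁, hz₂]; ring

theorem rel_smul {K L : Ideal A'} {x : I} {t} (a : A') (h : rel K L x t) :
    rel K L (a • x) (a • t) := by
  obtain ⟨y, hy, w, hw, e, f, z, hz, rfl⟩ := h
  refine ⟨a * y, K.mul_mem_left _ hy, a * w, L.mul_mem_left _ hw, ?_, ?_, a • z, ?_,
    map_smul _ _ _⟩
  · rw [map_mul, e]; rfl
  · rw [map_mul, f]; rfl
  · rw [map_smul, hz, smul_eq_mul]; ring

theorem rel_exists {K L : Ideal A'}
    (hK : K.map (Ideal.Quotient.mk (J.map (algebraMap C' A'))) = I)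
    (hL : L.map (Ideal.Quotient.mk (J.map (algebraMap C' A'))) = I) (x : I) :
    ∃ t, rel K L x t := by
  obtain ⟨y, hy, hyx⟩ := exists_lift hK x.2
  obtain ⟨w, hw, hwx⟩ := exists_lift hL x.2
  obtain ⟨z, hz⟩ := exists_mu (Ideal.Quotient.eq.1 (hwx.trans hyx.symm))
  exact ⟨rho I z, y, hy, w, hw, hyx, hwx, z, hz, rfl⟩

theorem rel_zero {K L : Ideal A'} [Module.Flat C' A']
    [Module.Flat C' (A' ⧸ K)] [Module.Flat C' (A' ⧸ L)]
    (hK : K.map (Ideal.Quotient.mk (J.map (algebraMap C' A'))) = I)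
    (hL : L.map (Ideal.Quotient.mk (J.map (algebraMap C' A'))) = I)
    {t : ((A' ⧸ J.map (algebraMap C' A')) ⧸ I) ⊗[C'] J} (h : rel K L (0 : I) t) : t = 0 := by
  obtain ⟨y, hy, w, hw, e, f, z, hz, rfl⟩ := h
  obtain ⟨z₁, rfl⟩ := exists_mu (Ideal.Quotient.eq_zero_iff_mem.1 e)
  obtain ⟨z₂, rfl⟩ := exists_mu (Ideal.Quotient.eq_zero_iff_mem.1 f)
  rw [← map_sub] at hz
  rw [mu_injective hz, map_sub, rho_eq_zero hK hy, rho_eq_zero hL hw, sub_zero]

theorem rel_unique {K L : Ideal A'} [Module.Flat C' A']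
    [Module.Flat C' (A' ⧸ K)] [Module.Flat C' (A' ⧸ L)]
    (hK : K.map (Ideal.Quotient.mk (J.map (algebraMap C' A'))) = I)
    (hL : L.map (Ideal.Quotient.mk (J.map (algebraMap C' A'))) = I) {x : I} {t₁ t₂}
    (h₁ : rel K L x t₁) (h₂ : rel K L x t₂) : t₁ = t₂ := by
  have h := rel_sub h₁ h₂
  rw [sub_self] at h
  exact sub_eq_zero.1 (rel_zero hK hL h)

/-- `S11464`. -/
theorem existsUnique_hom [Module.Flat C' A'] {K L : Ideal A'}
    [Module.Flat C' (A' ⧸ K)] [Module.Flat C' (A' ⧸ L)]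
    (hK : K.map (Ideal.Quotient.mk (J.map (algebraMap C' A'))) = I)
    (hL : L.map (Ideal.Quotient.mk (J.map (algebraMap C' A'))) = I) :
    ∃! φ : I →ₗ[A'] (((A' ⧸ J.map (algebraMap C' A')) ⧸ I) ⊗[C'] J), ∀ x, rel K L x (φ x) := by
  choose f hf using rel_exists (J := J) hK hL
  let F : I →ₗ[A'] (((A' ⧸ J.map (algebraMap C' A')) ⧸ I) ⊗[C'] J) :=
    { toFun := f
      map_add' := fun x y => rel_unique hK hL (hf _) (rel_add (hf x) (hf y))
      map_smul' := fun a x => rel_unique hK hL (hf _) (rel_smul a (hf x)) }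
  refine ⟨F, hf, ?_⟩
  intro ψ hψ
  exact LinearMap.ext fun x => rel_unique hK hL (hψ x) (hf x)

theorem forall_iff [Module.Flat C' A'] {K L : Ideal A'}
    [Module.Flat C' (A' ⧸ K)] [Module.Flat C' (A' ⧸ L)]
    (hK : K.map (Ideal.Quotient.mk (J.map (algebraMap C' A'))) = I)
    (hL : L.map (Ideal.Quotient.mk (J.map (algebraMap C' A'))) = I)
    (φ : I →ₗ[A'] (((A' ⧸ J.map (algebraMap C' A')) ⧸ I) ⊗[C'] J)) :
    (∀ (x : (A' ⧸ J.map (algebraMap C' A'))) (hx : x ∈ I) (x' x'' : A'), x' ∈ K → x'' ∈ L →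
      Ideal.Quotient.mk (J.map (algebraMap C' A')) x' = x →
      Ideal.Quotient.mk (J.map (algebraMap C' A')) x'' = x →
      ∀ z : A' ⊗[C'] J, TensorProduct.rid C' A' (LinearMap.lTensor A' (Submodule.subtype J) z) =
        x'' - x' → LinearMap.rTensor J
          (IsScalarTower.toAlgHom C' A' ((A' ⧸ J.map (algebraMap C' A')) ⧸ I)).toLinearMap z =
            φ ⟨x, hx⟩) ↔ ∀ x, rel K L x (φ x) := by
  constructor
  · intro h x
    obtain ⟨t, y, hy, w, hw, e, f, z, hz, ht⟩ := rel_exists (J := J) hK hL x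
    exact ⟨y, hy, w, hw, e, f, z, hz, h x x.2 y w hy hw e f z hz⟩
  · intro h x hx y w hy hw e f z hz
    exact rel_unique hK hL ⟨y, hy, w, hw, e, f, z, hz, rfl⟩ (h ⟨x, hx⟩)

/-- The ideal whose difference from `K` is `φ`. -/
def shift (K : Ideal A') (φ : I →ₗ[A'] (((A' ⧸ J.map (algebraMap C' A')) ⧸ I) ⊗[C'] J)) :
    Ideal A' where
  carrier := {w | ∃ x : I, Ideal.Quotient.mk (J.map (algebraMap C' A')) w = x ∧ ∃ y ∈ K,
    Ideal.Quotient.mk (J.map (algebraMap C' A')) y = x ∧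
      ∃ z : A' ⊗[C'] J, mu A' J z = w - y ∧ rho I z = φ x}
  add_mem' := by
    rintro w₁ w₂ ⟨x₁, f₁, y₁, hy₁, e₁, z₁, hz₁, h₁⟩ ⟨x₂, f₂, y₂, hy₂, e₂, z₂, hz₂, h₂⟩
    refine ⟨x₁ + x₂, ?_, y₁ + y₂, add_mem hy₁ hy₂, ?_, z₁ + z₂, ?_, ?_⟩
    · rw [map_add, f₁, f₂]; rfl
    · rw [map_add, e₁, e₂]; rfl
    · rw [map_add, hz₁, hz₂]; ring
    · rw [map_add, map_add, h₁, h₂]
  zero_mem' := ⟨0, map_zero _, 0, zero_mem _, map_zero _, 0, by simp, by simp⟩
  smul_mem' := by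
    rintro a w ⟨x, f, y, hy, e, z, hz, h⟩
    refine ⟨a • x, ?_, a * y, K.mul_mem_left _ hy, ?_, a • z, ?_, ?_⟩
    · rw [smul_eq_mul, map_mul, f]; rfl
    · rw [map_mul, e]; rfl
    · rw [map_smul, hz, smul_eq_mul, smul_eq_mul]; ring
    · rw [map_smul, map_smul, h]

theorem mem_shift {K : Ideal A'} {φ : I →ₗ[A'] (((A' ⧸ J.map (algebraMap C' A')) ⧸ I) ⊗[C'] J)}
    {w : A'} : w ∈ shift K φ ↔ ∃ x : I, Ideal.Quotient.mk (J.map (algebraMap C' A')) w = x ∧
      ∃ y ∈ K, Ideal.Quotient.mk (J.map (algebraMap C' A')) y = x ∧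
        ∃ z : A' ⊗[C'] J, mu A' J z = w - y ∧ rho I z = φ x := Iff.rfl

theorem rel_shift {K : Ideal A'}
    (hK : K.map (Ideal.Quotient.mk (J.map (algebraMap C' A'))) = I)
    (φ : I →ₗ[A'] (((A' ⧸ J.map (algebraMap C' A')) ⧸ I) ⊗[C'] J)) (x : I) :
    rel K (shift K φ) x (φ x) := by
  obtain ⟨y, hy, hyx⟩ := exists_lift hK x.2
  obtain ⟨z, hz⟩ := rho_surjective I (φ x)
  have h1 : Ideal.Quotient.mk (J.map (algebraMap C' A')) (y + mu A' J z) = x := by
    rw [map_add, hyx, Ideal.Quotient.eq_zero_iff_mem.2 (mu_mem z), add_zero]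
  have h2 : mu A' J z = y + mu A' J z - y := by ring
  exact ⟨y, hy, y + mu A' J z, ⟨x, h1, y, hy, hyx, z, h2, hz⟩, hyx, h1, z, h2, hz⟩

theorem shift_map {K : Ideal A'}
    (hK : K.map (Ideal.Quotient.mk (J.map (algebraMap C' A'))) = I)
    (φ : I →ₗ[A'] (((A' ⧸ J.map (algebraMap C' A')) ⧸ I) ⊗[C'] J)) :
    (shift K φ).map (Ideal.Quotient.mk (J.map (algebraMap C' A'))) = I := by
  apply le_antisymm
  · rw [Ideal.map_le_iff_le_comap]
    rintro w ⟨x, f, -⟩
    rw [Ideal.mem_comap, f]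
    exact x.2
  · intro x hx
    obtain ⟨y, hy, w, hw, e, f, -⟩ := rel_shift hK φ ⟨x, hx⟩
    exact (Ideal.mem_map_iff_of_surjective _ Ideal.Quotient.mk_surjective).2 ⟨w, hw, f⟩

theorem shift_key {K : Ideal A'} [Module.Flat C' A'] [Module.Flat C' (A' ⧸ K)]
    (hK : K.map (Ideal.Quotient.mk (J.map (algebraMap C' A'))) = I)
    (φ : I →ₗ[A'] (((A' ⧸ J.map (algebraMap C' A')) ⧸ I) ⊗[C'] J)) (z : A' ⊗[C'] J)
    (hz : mu A' J z ∈ shift K φ) : rho I z = 0 := by
  obtain ⟨x, f, y, hy, e, z₁, hz₁, h₁⟩ := hz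
  have hx : x = 0 := by
    apply Subtype.ext
    rw [← f]
    exact Ideal.Quotient.eq_zero_iff_mem.2 (mu_mem z)
  rw [hx, map_zero] at h₁
  rw [hx] at e
  obtain ⟨z₂, rfl⟩ := exists_mu (Ideal.Quotient.eq_zero_iff_mem.1 e)
  have h2 : z = z₁ + z₂ := by
    apply mu_injective
    rw [map_add, hz₁]
    ring
  rw [h2, map_add, h₁, rho_eq_zero hK hy, add_zero]

/-- `S11465`. -/
theorem existsUnique_ideal [Module.Flat C' A'] (hJJ : J * J = ⊥) {K : Ideal A'}
    [Module.Flat (C' ⧸ J) ((A' ⧸ J.map (algebraMap C' A')) ⧸ I)]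
    [Module.Flat C' (A' ⧸ K)]
    (hK : K.map (Ideal.Quotient.mk (J.map (algebraMap C' A'))) = I)
    (φ : I →ₗ[A'] (((A' ⧸ J.map (algebraMap C' A')) ⧸ I) ⊗[C'] J)) :
    ∃! L : Ideal A', Module.Flat C' (A' ⧸ L) ∧
      L.map (Ideal.Quotient.mk (J.map (algebraMap C' A'))) = I ∧ ∀ x, rel K L x (φ x) := by
  refine ⟨shift K φ, ⟨flat_of_forall (shift_map hK φ) hJJ (shift_key hK φ), shift_map hK φ,
    rel_shift hK φ⟩, ?_⟩
  rintro L ⟨hflat, hL, hrel⟩
  ext w
  constructor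
  · intro hw
    have hx : Ideal.Quotient.mk (J.map (algebraMap C' A')) w ∈ I := by
      rw [← hL]
      exact Ideal.mem_map_of_mem _ hw
    obtain ⟨y, hy, w', hw', e, f, z, hz, h⟩ := hrel ⟨_, hx⟩
    obtain ⟨z₂, hz₂⟩ := exists_mu (Ideal.Quotient.eq.1 f.symm)
    have h2 : rho I z₂ = 0 := rho_eq_zero hL (by rw [hz₂]; exact sub_mem hw hw')
    refine ⟨⟨_, hx⟩, rfl, y, hy, e, z + z₂, ?_, ?_⟩
    · rw [map_add, hz, hz₂]; ring
    · rw [map_add, h, h2, add_zero]
  · rintro ⟨x, f, y, hy, e, z, hz, h⟩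
    obtain ⟨y', hy', w', hw', e', f', z', hz', h'⟩ := hrel x
    obtain ⟨z₂, hz₂⟩ := exists_mu (Ideal.Quotient.eq.1 (e.trans e'.symm))
    have h2 : rho I z₂ = 0 := rho_eq_zero hK (by rw [hz₂]; exact sub_mem hy hy')
    have h3 : mu A' J (z - z' + z₂) ∈ L := by
      apply mu_mem_of_rho hL hJJ
      rw [map_add, map_sub, h, h', h2, sub_self, add_zero]
    have h4 : w = w' + mu A' J (z - z' + z₂) := by
      rw [map_add, map_sub, hz, hz', hz₂]; ring
    rw [h4]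
    exact add_mem hw' h3

end Results

end K577.EmbDef
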