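import Groth.Agent.Divis.ReflexAlg
import Groth.Agent.DefT.K692.CodimPair
import Groth.Agent.DefT.K692.NilHeight
import Groth.Agent.Pi1A.DepthTwo
import Groth.Prelude.Def_Pi1

/-!
# Extension of functions over codimension two for flat families with normal closed fibre
-/

set_option autoImplicit false
universe u

open CategoryTheory AlgebraicGeometry IsLocalRing Groth.Agent.Divis.DepthTwo

namespace K577.HartogsFlat

/-- Functions on an open of an affine scheme whose complement ideal contains a regular pair. -/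
theorem bijective_of_regPair {A : Type u} [CommRing A] (U : (Spec (CommRingCat.of A)).Opens)
    {a b : A} (hab : RegPair a b A)
    (ha : ∀ p : ↥(Spec (CommRingCat.of A)), p ∉ U → a ∈ p.asIdeal)
    (hb : ∀ p : ↥(Spec (CommRingCat.of A)), p ∉ U → b ∈ p.asIdeal) :
    Function.Bijective ((Spec (CommRingCat.of A)).presheaf.map (homOfLE (le_top : U ≤ ⊤)).op) := by
  let e : CommRingCat.of A ≅ Γ(Spec (CommRingCat.of A), ⊤) := (Scheme.ΓSpecIso (CommRingCat.of A)).symm
  let E : A ≃+* Γ(Spec (CommRingCat.of A), ⊤) := e.commRingCatIsoToRingEquiv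
  have h1 : Groth.Agent.Pi1A.DepthTwo.IsRegPair (E a) (E b) := by
    refine ⟨fun x hx => ?_, fun x c hxc => ?_⟩
    · have h2 : a • E.symm x = 0 := by
        apply E.injective
        rw [smul_eq_mul, map_mul, E.apply_symm_apply, hx, map_zero]
      have h3 := hab.inj _ h2
      rw [← E.apply_symm_apply x, h3, map_zero]
    · have h2 : b • E.symm x = a • E.symm c := by
        apply E.injective
        rw [smul_eq_mul, smul_eq_mul, map_mul, map_mul, E.apply_symm_apply, E.apply_symm_apply, hxc]
      obtain ⟨d, hd⟩ := hab.div _ _ h2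
      refine ⟨E d, ?_⟩
      rw [← E.apply_symm_apply x, hd, smul_eq_mul, map_mul]
  refine Groth.Agent.Pi1A.DepthTwo.bijective_res_of_isRegPair
    (isAffineOpen_top (Spec (CommRingCat.of A))) (E a) (E b) h1 le_top ?_
  have hbo : ∀ c : A, (Spec (CommRingCat.of A)).basicOpen (E c) = PrimeSpectrum.basicOpen c :=
    fun c => basicOpen_eq_of_affine' (R := CommRingCat.of A) (E c) |>.trans (by
      congr 1
      exact E.symm_apply_apply c)
  rw [hbo, hbo]
  refine sup_le (fun p hp => ?_) (fun p hp => ?_)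
  · by_contra hcon
    exact hp (ha p hcon)
  · by_contra hcon
    exact hp (hb p hcon)

theorem normal_localization {B : Type u} [CommRing B]
    (h : Pi1.IsNormalScheme (Spec (CommRingCat.of B))) (p : Ideal B) [hp : p.IsPrime] :
    IsDomain (Localization.AtPrime p) ∧ IsIntegrallyClosed (Localization.AtPrime p) := by
  obtain ⟨h1, h2⟩ := h ⟨p, hp⟩
  let e : (Spec (CommRingCat.of B)).presheaf.stalk ⟨p, hp⟩ ≃+* Localization.AtPrime p :=
    (Spec.stalkIso (CommRingCat.of B) ⟨p, hp⟩).commRingCatIsoToRingEquiv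
  have hd : IsDomain (Localization.AtPrime p) := e.symm.toMulEquiv.isDomain _
  exact ⟨hd, IsIntegrallyClosed.of_equiv e⟩

theorem exists_regPair_of_normal {B : Type u} [CommRing B] [IsNoetherianRing B]
    (h : Pi1.IsNormalScheme (Spec (CommRingCat.of B))) (I : Ideal B)
    (hI : ∀ p : Ideal B, p.IsPrime → I ≤ p → (2 : ℕ∞) ≤ p.height) :
    ∃ a ∈ I, ∃ b ∈ I, RegPair a b B := by
  refine exists_regPair I fun p hp hle => ?_
  obtain ⟨h1, h2⟩ := normal_localization h p
  have hdim : 2 ≤ ringKrullDim (Localization.AtPrime p) := by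
    rw [IsLocalization.AtPrime.ringKrullDim_eq_height p]
    exact WithBot.coe_le_coe.2 (hI p hp hle)
  exact Groth.Agent.Divis.ExtendStalk.exists_regPair_localizedModule p
    (A := Localization.AtPrime p) (N := Localization.AtPrime p)
    (Algebra.linearMap B (Localization.AtPrime p))
    (Groth.Agent.Divis.ReflexAlg.exists_regPair_of_isIntegrallyClosed hdim)

theorem bijective_of_flat {C : Type u} [CommRing C] [IsLocalRing C]
    (hnil : IsNilpotent (maximalIdeal C)) {A : Type u} [CommRing A] [IsNoetherianRing A]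
    [Algebra C A] [Module.Flat C A]
    (hnorm : Pi1.IsNormalScheme (Spec (CommRingCat.of (A ⧸ (maximalIdeal C).map (algebraMap C A)))))
    (U : (Spec (CommRingCat.of A)).Opens)
    (hU : ∀ p : ↥(Spec (CommRingCat.of A)), p ∉ U → (2 : ℕ∞) ≤ p.asIdeal.height) :
    Function.Bijective ((Spec (CommRingCat.of A)).presheaf.map (homOfLE (le_top : U ≤ ⊤)).op) := by
  let Z : Set (PrimeSpectrum A) := {p | (p : ↥(Spec (CommRingCat.of A))) ∉ U}
  have hZ : IsClosed Z := U.isOpen.isClosed_compl
  let I : Ideal A := PrimeSpectrum.vanishingIdeal Z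
  have hI : ∀ p : PrimeSpectrum A, I ≤ p.asIdeal → p ∉ U := by
    intro p hp
    have h1 : p ∈ PrimeSpectrum.zeroLocus (I : Set A) := hp
    rw [PrimeSpectrum.zeroLocus_vanishingIdeal_eq_closure, hZ.closure_eq] at h1
    exact h1
  have hI' : ∀ p : PrimeSpectrum A, p ∉ U → ∀ a ∈ I, a ∈ p.asIdeal := by
    intro p hp a ha
    exact (PrimeSpectrum.mem_vanishingIdeal Z a).1 ha p hp
  let m := (maximalIdeal C).map (algebraMap C A)
  have hker : RingHom.ker (Ideal.Quotient.mk m) ≤ nilradical A := by
    rw [Ideal.mk_ker]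
    obtain ⟨n, hn⟩ := hnil
    intro x hx
    refine ⟨n, ?_⟩
    have h1 : x ^ n ∈ m ^ n := Ideal.pow_mem_pow hx n
    rw [← Ideal.map_pow, hn] at h1
    simpa using h1
  obtain ⟨a₀, ha₀, b₀, hb₀, hab₀⟩ := exists_regPair_of_normal hnorm (I.map (Ideal.Quotient.mk m))
    (fun p hp hle => by
      have h1 : (p.comap (Ideal.Quotient.mk m)).height = p.height :=
        K692.NilHeight.height_comap _ Ideal.Quotient.mk_surjective hker p
      rw [← h1]
      exact hU ⟨p.comap (Ideal.Quotient.mk m), inferInstance⟩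
        (hI ⟨p.comap (Ideal.Quotient.mk m), inferInstance⟩ (Ideal.map_le_iff_le_comap.1 hle)))
  obtain ⟨a, ha, b, hb, hab, -⟩ := K692.CodimPair.exists_regPair_lift hnil I ha₀ hb₀ hab₀
  exact bijective_of_regPair U hab (fun p hp => hI' p hp a ha) (fun p hp => hI' p hp b hb)

end K577.HartogsFlat
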